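import Mathlib
import Groth.Agent.ProjRed.Gen

/-! The graded algebra `⊕ₙ A_{≥ n} Tⁿ` of a graded algebra `A`. -/

set_option autoImplicit false
set_option linter.style.haveILetI false
set_option backward.isDefEq.respectTransparency false
universe u
open Polynomial

noncomputable section

namespace Groth.Agent.GrNatLib

variable {R A B : Type u} [CommRing R] [CommRing A] [Algebra R A] {𝒜 : ℕ → Submodule R A} [GradedAlgebra 𝒜]
  [CommRing B] [Algebra R B] {ℬ : ℕ → Submodule R B} [GradedAlgebra ℬ] {φ : B →ₐ[R] Polynomial A}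

variable (𝒜) in
/-- `A_{≥ n}`. -/
def ge (n : ℕ) : Submodule R A := ⨆ (m : ℕ) (_ : n ≤ m), 𝒜 m

lemma mem_ge_of_mem {n m : ℕ} {a : A} (ha : a ∈ 𝒜 m) (h : n ≤ m) : a ∈ ge 𝒜 n :=
  le_iSup₂ (f := fun (m : ℕ) (_ : n ≤ m) => 𝒜 m) m h ha

lemma decompose_eq_zero {n k : ℕ} {a : A} (ha : a ∈ ge 𝒜 n) (hk : k < n) :
    (DirectSum.decompose 𝒜 a k : A) = 0 := by
  have h : ge 𝒜 n ≤ LinearMap.ker (GradedAlgebra.proj 𝒜 k) := iSup₂_le fun m hm x hx => by
    rw [LinearMap.mem_ker, GradedAlgebra.proj_apply, DirectSum.decompose_of_mem_ne 𝒜 hx (by omega)]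
  exact h ha

lemma mem_ge_iff {n : ℕ} {a : A} :
    a ∈ ge 𝒜 n ↔ ∀ k < n, (DirectSum.decompose 𝒜 a k : A) = 0 := by
  classical
  refine ⟨fun ha k hk => decompose_eq_zero ha hk, fun h => ?_⟩
  rw [← DirectSum.sum_support_decompose 𝒜 a]
  refine Submodule.sum_mem _ fun k _ => ?_
  rcases lt_or_ge k n with hk | hk
  · rw [h k hk]; exact zero_mem _
  · exact mem_ge_of_mem (SetLike.coe_mem _) hk

lemma ge_zero (a : A) : a ∈ ge 𝒜 0 := mem_ge_iff.2 fun k hk => absurd hk (Nat.not_lt_zero k)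

lemma mem_ge_one_iff {a : A} : a ∈ ge 𝒜 1 ↔ a ∈ (HomogeneousIdeal.irrelevant 𝒜).toIdeal := by
  rw [mem_ge_iff, HomogeneousIdeal.mem_iff, HomogeneousIdeal.mem_irrelevant_iff, GradedRing.proj_apply]
  exact ⟨fun h => h 0 one_pos, fun h k hk => by obtain rfl : k = 0 := by omega
                                                exact h⟩

lemma mul_mem_ge {m n : ℕ} {a b : A} (ha : a ∈ ge 𝒜 m) (hb : b ∈ ge 𝒜 n) :
    a * b ∈ ge 𝒜 (m + n) := by
  classical
  rw [← DirectSum.sum_support_decompose 𝒜 a, ← DirectSum.sum_support_decompose 𝒜 b, Finset.sum_mul_sum]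
  refine Submodule.sum_mem _ fun i _ => Submodule.sum_mem _ fun j _ => ?_
  rcases lt_or_ge i m with hi | hi
  · rw [decompose_eq_zero ha hi, zero_mul]; exact zero_mem _
  rcases lt_or_ge j n with hj | hj
  · rw [decompose_eq_zero hb hj, mul_zero]; exact zero_mem _
  exact mem_ge_of_mem (SetLike.mul_mem_graded (SetLike.coe_mem _) (SetLike.coe_mem _)) (by omega)

lemma decompose_mul_ge {m n : ℕ} {a b : A} (ha : a ∈ ge 𝒜 m) (hb : b ∈ ge 𝒜 n) :
    (DirectSum.decompose 𝒜 (a * b) (m + n) : A) =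
      (DirectSum.decompose 𝒜 a m : A) * DirectSum.decompose 𝒜 b n := by
  classical
  have hrest : ∀ {k : ℕ} {c : A}, c ∈ ge 𝒜 k →
      c - (DirectSum.decompose 𝒜 c k : A) ∈ ge 𝒜 (k + 1) := fun {k c} hc => mem_ge_iff.2 fun j hj => by
    rw [DirectSum.decompose_sub, DirectSum.sub_apply, AddSubgroupClass.coe_sub]
    rcases Nat.lt_succ_iff_lt_or_eq.1 hj with h | rfl
    · rw [decompose_eq_zero hc h, DirectSum.decompose_of_mem_ne 𝒜 (SetLike.coe_mem _) h.ne', sub_zero]
    · rw [DirectSum.decompose_of_mem_same 𝒜 (SetLike.coe_mem _), sub_self]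
  have e : a * b = (DirectSum.decompose 𝒜 a m : A) * DirectSum.decompose 𝒜 b n +
      ((a - DirectSum.decompose 𝒜 a m) * b +
        (DirectSum.decompose 𝒜 a m : A) * (b - DirectSum.decompose 𝒜 b n)) := by ring
  have h2 : (a - DirectSum.decompose 𝒜 a m) * b +
      (DirectSum.decompose 𝒜 a m : A) * (b - DirectSum.decompose 𝒜 b n) ∈ ge 𝒜 (m + n + 1) := by
    refine add_mem ?_ ?_
    · rw [add_right_comm]; exact mul_mem_ge (hrest ha) hb
    · rw [add_assoc]; exact mul_mem_ge (mem_ge_of_mem (SetLike.coe_mem _) le_rfl) (hrest hb)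
  rw [e, DirectSum.decompose_add, DirectSum.add_apply, Submodule.coe_add,
    decompose_eq_zero h2 (Nat.lt_succ_self _), add_zero,
    DirectSum.decompose_of_mem_same 𝒜 (SetLike.mul_mem_graded (SetLike.coe_mem _) (SetLike.coe_mem _))]

variable (hφ : Function.Injective φ)
  (hdeg : ∀ n : ℕ, Submodule.map φ.toLinearMap (ℬ n) =
      Submodule.map ((Polynomial.monomial n : A →ₗ[A] Polynomial A).restrictScalars R) (ge 𝒜 n))

include hdeg in
lemma exists_of_ge {n : ℕ} {a : A} (ha : a ∈ ge 𝒜 n) : ∃ b ∈ ℬ n, φ b = monomial n a :=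
  (hdeg n).ge (Submodule.mem_map_of_mem ha)

include hdeg in
lemma exists_of_mem {n : ℕ} {b : B} (hb : b ∈ ℬ n) : ∃ a ∈ ge 𝒜 n, φ b = monomial n a := by
  obtain ⟨a, ha, h⟩ := (hdeg n).le (Submodule.mem_map_of_mem hb)
  exact ⟨a, ha, h.symm⟩

include hdeg in
/-- `b ↦ a` where `φ b = a Tⁿ`. -/
lemma coeff_mem {n : ℕ} {b : B} (hb : b ∈ ℬ n) : (φ b).coeff n ∈ ge 𝒜 n ∧ φ b = monomial n ((φ b).coeff n) := by
  obtain ⟨a, ha, h⟩ := exists_of_mem hdeg hb
  rw [h, coeff_monomial, if_pos rfl]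
  exact ⟨ha, rfl⟩

variable (φ) in
/-- Setting `T = 1`. -/
def evalOne : B →+* A := (Polynomial.evalRingHom 1).comp φ.toRingHom

lemma evalOne_of_eq {n : ℕ} {a : A} {b : B} (h : φ b = monomial n a) : evalOne φ b = a := by
  show Polynomial.eval 1 (φ b) = a
  rw [h, eval_monomial, one_pow, mul_one]

include hdeg in
lemma irrelevant_eq_map :
    (HomogeneousIdeal.irrelevant 𝒜).toIdeal =
      (HomogeneousIdeal.irrelevant ℬ).toIdeal.map (evalOne φ) := by
  classical
  refine le_antisymm (fun a ha => ?_) (Ideal.map_le_iff_le_comap.2 fun b hb => ?_)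
  · obtain ⟨b, hb, h⟩ := exists_of_ge hdeg (mem_ge_one_iff.2 ha)
    rw [← evalOne_of_eq h]
    refine Ideal.mem_map_of_mem _ ?_
    rw [HomogeneousIdeal.mem_iff, HomogeneousIdeal.mem_irrelevant_iff, GradedRing.proj_apply,
      DirectSum.decompose_of_mem_ne ℬ hb one_ne_zero]
  · rw [← DirectSum.sum_support_decompose ℬ b]
    refine Ideal.sum_mem _ fun n _ => ?_
    rcases Nat.eq_zero_or_pos n with rfl | hn
    · rw [← GradedRing.proj_apply, (HomogeneousIdeal.mem_irrelevant_iff ℬ b).1 hb]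
      exact zero_mem _
    · obtain ⟨a, ha, h⟩ := exists_of_mem hdeg (SetLike.coe_mem (DirectSum.decompose ℬ b n))
      rw [Ideal.mem_comap, evalOne_of_eq h, ← mem_ge_one_iff]
      exact mem_ge_iff.2 fun k hk => decompose_eq_zero ha (by omega)

include hφ hdeg in
/-- `B_0 ≅ A`. -/
lemma exists_zeroEquiv : ∃ e : (ℬ 0) ≃+* A, ∀ b : ℬ 0, e b = evalOne φ b := by
  have hbij : Function.Bijective ((evalOne φ).comp (algebraMap (ℬ 0) B)) := by
    constructor
    · intro x y h
      obtain ⟨a, -, ha⟩ := exists_of_mem hdeg x.2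
      obtain ⟨c, -, hc⟩ := exists_of_mem hdeg y.2
      refine Subtype.ext (hφ ?_)
      rw [ha, hc]
      congr 1
      exact (evalOne_of_eq ha).symm.trans (h.trans (evalOne_of_eq hc))
    · intro a
      obtain ⟨b, hb, h⟩ := exists_of_ge hdeg (ge_zero a)
      exact ⟨⟨b, hb⟩, evalOne_of_eq h⟩
  exact ⟨RingEquiv.ofBijective _ hbij, fun b => rfl⟩

include hφ hdeg in
theorem finiteType [Algebra.FiniteType (𝒜 0) A] : Algebra.FiniteType (ℬ 0) B := by
  classical
  obtain ⟨t, ht, ht'⟩ := GradedAlgebra.exists_finset_adjoin_eq_top_and_homogeneous_ne_zero 𝒜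
  choose! d hd0 hd using ht'
  let g : A → ℕ → B := fun e j => if h : e ∈ t ∧ j ≤ d e then
      (exists_of_ge hdeg (mem_ge_of_mem (hd e h.1) h.2)).choose else 0
  have hg : ∀ e ∈ t, ∀ j ≤ d e, φ (g e j) = monomial j e := fun e he j hj => by
    simp only [g, dif_pos (show e ∈ t ∧ j ≤ d e from ⟨he, hj⟩)]
    exact (exists_of_ge hdeg (mem_ge_of_mem (hd e he) hj)).choose_spec.2
  let G : Finset B := t.biUnion fun e => (Finset.range (d e + 1)).image (g e)
  set K := (Algebra.adjoin (ℬ 0) (G : Set B)).toSubring.map φ.toRingHom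
  have hC : ∀ a, monomial 0 a ∈ K := fun a => by
    obtain ⟨b, hb, h⟩ := exists_of_ge hdeg (ge_zero a)
    exact ⟨b, Subalgebra.algebraMap_mem _ (⟨b, hb⟩ : ℬ 0), h⟩
  have hmono : ∀ m ∈ Submonoid.closure (t : Set A), ∃ k, m ∈ 𝒜 k ∧ ∀ n ≤ k, monomial n m ∈ K := by
    intro m hm
    induction hm using Submonoid.closure_induction with
    | mem m hm =>
      refine ⟨d m, hd m hm, fun n hn => ⟨g m n, Algebra.subset_adjoin ?_, hg m hm n hn⟩⟩
      exact Finset.mem_biUnion.2 ⟨m, hm, Finset.mem_image.2 ⟨n, Finset.mem_range.2 (by omega), rfl⟩⟩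
    | one =>
      refine ⟨0, SetLike.GradedOne.one_mem, fun n hn => ?_⟩
      obtain rfl : n = 0 := by omega
      exact hC 1
    | mul a b _ _ ha hb =>
      obtain ⟨i, hi, hi'⟩ := ha
      obtain ⟨j, hj, hj'⟩ := hb
      refine ⟨i + j, SetLike.mul_mem_graded hi hj, fun n hn => ?_⟩
      have := mul_mem (hi' (min n i) (min_le_right _ _)) (hj' (n - min n i) (by omega))
      rwa [monomial_mul_monomial, Nat.add_sub_cancel' (min_le_left _ _)] at this
  have hall : ∀ x ∈ Submodule.span (𝒜 0) (Submonoid.closure (t : Set A) : Set A),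
      ∀ k n, n ≤ k → monomial n (DirectSum.decompose 𝒜 x k : A) ∈ K := by
    intro x hx
    induction hx using Submodule.span_induction with
    | mem m hm =>
      intro k n hn
      obtain ⟨i, hi, hi'⟩ := hmono m hm
      rcases eq_or_ne i k with rfl | hik
      · rw [DirectSum.decompose_of_mem_same 𝒜 hi]; exact hi' n hn
      · rw [DirectSum.decompose_of_mem_ne 𝒜 hi hik, map_zero]; exact zero_mem _
    | zero => intro k n _; simp
    | add x y _ _ hx hy =>
      intro k n hn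
      rw [DirectSum.decompose_add, DirectSum.add_apply, Submodule.coe_add, map_add]
      exact add_mem (hx k n hn) (hy k n hn)
    | smul r x _ hx =>
      intro k n hn
      have e : r • x = (r : A) * x := rfl
      rw [e, DirectSum.coe_decompose_mul_of_left_mem_of_le 𝒜 r.2 (Nat.zero_le k), Nat.sub_zero,
        show monomial n ((r : A) * (DirectSum.decompose 𝒜 x k : A)) =
          monomial 0 (r : A) * monomial n (DirectSum.decompose 𝒜 x k : A) by
            rw [monomial_mul_monomial, zero_add]]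
      exact mul_mem (hC _) (hx k n hn)
  refine ⟨⟨G, eq_top_iff.2 fun b _ => ?_⟩⟩
  rw [← DirectSum.sum_support_decompose ℬ b]
  refine Subalgebra.sum_mem _ fun n _ => ?_
  obtain ⟨a, ha, h⟩ := exists_of_mem hdeg (SetLike.coe_mem (DirectSum.decompose ℬ b n))
  have hmem : monomial n a ∈ K := by
    rw [← DirectSum.sum_support_decompose 𝒜 a, map_sum]
    refine sum_mem fun k _ => ?_
    rcases lt_or_ge k n with hk | hk
    · rw [decompose_eq_zero ha hk, map_zero]; exact zero_mem _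
    · refine hall a ?_ k n hk
      rw [← Algebra.adjoin_eq_span, ht]
      trivial
  obtain ⟨b', hb', h'⟩ := hmem
  rwa [hφ (h.trans h'.symm)]

include hφ hdeg in
theorem finiteType_iff : Algebra.FiniteType (ℬ 0) B ↔ Algebra.FiniteType (𝒜 0) A := by
  refine ⟨fun h => ?_, fun h => finiteType hφ hdeg⟩
  rw [← Groth.Agent.ProjRed.irrelevant_fg_iff] at h ⊢
  rw [irrelevant_eq_map hdeg]
  exact h.map _

include hφ hdeg in
theorem isNoetherianRing_iff : IsNoetherianRing B ↔ IsNoetherianRing A := by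
  obtain ⟨e, -⟩ := exists_zeroEquiv hφ hdeg
  constructor
  · intro h
    haveI : IsNoetherianRing (ℬ 0) := inferInstance
    exact isNoetherianRing_of_ringEquiv _ e
  · intro h
    haveI : IsNoetherianRing (ℬ 0) := isNoetherianRing_of_ringEquiv _ e.symm
    haveI := ((Groth.Agent.ProjRed.isNoetherianRing_iff 𝒜).1 h).2
    haveI := finiteType hφ hdeg
    exact Algebra.FiniteType.isNoetherianRing (ℬ 0) B

end Groth.Agent.GrNatLib
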