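import Groth.Agent.GrNatLib.Basic
import Groth.Agent.ProjRed.Basic
import Groth.Agent.RelProjLib.Basic

/-! `Proj` of the associated graded of `⊕ A_{≥ n}`. -/

set_option autoImplicit false
set_option linter.style.haveILetI false
set_option backward.isDefEq.respectTransparency false
universe u
open Polynomial

namespace Groth.Agent.GrNatLib

variable {R A B C : Type u} [CommRing R] [CommRing A] [Algebra R A] {𝒜 : ℕ → Submodule R A} [GradedAlgebra 𝒜]
  [CommRing B] [Algebra R B] {ℬ : ℕ → Submodule R B} [GradedAlgebra ℬ] {φ : B →ₐ[R] Polynomial A}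
  [CommRing C] [Algebra R C] {𝒞 : ℕ → Submodule R C} [GradedAlgebra 𝒞]

variable
  (hdeg : ∀ n : ℕ, Submodule.map φ.toLinearMap (ℬ n) =
      Submodule.map ((Polynomial.monomial n : A →ₗ[A] Polynomial A).restrictScalars R) (ge 𝒜 n))
  (π : ℬ →+*ᵍ 𝒞) (hπ : Function.Surjective π)
  (ρ : 𝒞 →+*ᵍ 𝒜) (hρ : ∀ (n : ℕ) (b : B), b ∈ ℬ n → ρ (π b) = GradedRing.proj 𝒜 n ((φ b).coeff n))

include hdeg hρ in
lemma exists_rho {n : ℕ} {a : A} (ha : a ∈ 𝒜 n) : ∃ c ∈ 𝒞 n, ρ c = a := by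
  obtain ⟨b, hb, e⟩ := exists_of_ge hdeg (mem_ge_of_mem ha le_rfl)
  refine ⟨π b, π.map_mem hb, ?_⟩
  rw [hρ n b hb, e, coeff_monomial, if_pos rfl, GradedRing.proj_apply,
    DirectSum.decompose_of_mem_same 𝒜 ha]

include hdeg hρ in
lemma rho_surjective : Function.Surjective ρ := by
  classical
  intro a
  choose g _ hg using fun n => exists_rho hdeg π ρ hρ (SetLike.coe_mem (DirectSum.decompose 𝒜 a n))
  exact ⟨∑ n ∈ (DirectSum.decompose 𝒜 a).support, g n, by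
    rw [map_sum]; simp only [hg]; exact DirectSum.sum_support_decompose 𝒜 a⟩

include hdeg hπ hρ in
lemma exists_lift {n : ℕ} {c : C} (hc : c ∈ 𝒞 n) (h0 : ρ c = 0) :
    ∃ (b : B) (a : A), b ∈ ℬ n ∧ π b = c ∧ a ∈ ge 𝒜 (n + 1) ∧ φ b = monomial n a := by
  obtain ⟨b, rfl⟩ := hπ c
  refine ⟨(DirectSum.decompose ℬ b n : B), ?_⟩
  have hb' : π (DirectSum.decompose ℬ b n : B) = π b := by
    rw [GradedRingHom.map_directSumDecompose, DirectSum.decompose_of_mem_same 𝒞 hc]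
  obtain ⟨a, ha, e⟩ := exists_of_mem hdeg (SetLike.coe_mem (DirectSum.decompose ℬ b n))
  refine ⟨a, SetLike.coe_mem _, hb', ?_, e⟩
  have h := hρ n _ (SetLike.coe_mem (DirectSum.decompose ℬ b n))
  rw [hb', h0, e, coeff_monomial, if_pos rfl, GradedRing.proj_apply] at h
  refine mem_ge_iff.2 fun k hk => ?_
  rcases Nat.lt_succ_iff_lt_or_eq.1 hk with h' | rfl
  · exact decompose_eq_zero ha h'
  · exact h.symm

variable (hφ : Function.Injective φ)
  (hker : RingHom.ker π.toRingHom =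
      Ideal.span (⇑φ ⁻¹' (⇑(Polynomial.C : A →+* Polynomial A) '' ((HomogeneousIdeal.irrelevant 𝒜).toIdeal : Set A))))

include hdeg hφ hker in
lemma pi_eq_zero {n : ℕ} {x y : A} (hx : x ∈ (HomogeneousIdeal.irrelevant 𝒜).toIdeal) (hy : y ∈ ge 𝒜 n)
    {b : B} (hb : φ b = monomial n (x * y)) : π b = 0 := by
  obtain ⟨bx, -, ex⟩ := exists_of_ge hdeg (ge_zero x)
  obtain ⟨by', -, ey⟩ := exists_of_ge hdeg hy
  have : b = bx * by' := hφ (by rw [map_mul, ex, ey, hb, monomial_mul_monomial, zero_add])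
  have hk : bx ∈ RingHom.ker π.toRingHom := by
    rw [hker]
    exact Ideal.subset_span ⟨x, hx, ex.symm⟩
  rw [this]
  exact Ideal.mul_mem_right _ (RingHom.ker π.toRingHom) hk

include hdeg hπ hρ hφ hker in
lemma isNilpotent_of_rho_eq_zero {n : ℕ} {c : C} (hc : c ∈ 𝒞 n) (h0 : ρ c = 0) : IsNilpotent c := by
  obtain ⟨b, a, hb, rfl, ha, e⟩ := exists_lift hdeg π hπ ρ hρ hc h0
  refine ⟨n + 1, ?_⟩
  rw [← map_pow]
  refine pi_eq_zero hdeg π hφ hker (n := n * (n + 1)) (x := a) (y := a ^ n) ?_ ?_ ?_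
  · exact mem_ge_one_iff.1 (mem_ge_iff.2 fun k hk => decompose_eq_zero ha (by omega))
  · have : a ^ n ∈ ge 𝒜 (n * (n + 1)) := by
      suffices ∀ k, a ^ k ∈ ge 𝒜 (k * (n + 1)) from this n
      intro k
      induction k with
      | zero => rw [pow_zero, zero_mul]; exact ge_zero _
      | succ k ih => rw [pow_succ, Nat.succ_mul]; exact mul_mem_ge ih ha
    exact this
  · rw [map_pow, e, monomial_pow, pow_succ']

include hdeg hπ hρ hφ hker in
lemma rho_bijOn {n : ℕ} (hgen : 𝒜 1 * ge 𝒜 n ≥ ge 𝒜 (n + 1)) : Set.BijOn ρ (𝒞 n) (𝒜 n) := by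
  refine ⟨fun c hc => ρ.map_mem hc, fun c hc c' hc' h => ?_, fun a ha => exists_rho hdeg π ρ hρ ha⟩
  rw [← sub_eq_zero]
  obtain ⟨b, a, hb, hbc, ha, e⟩ := exists_lift hdeg π hπ ρ hρ (Submodule.sub_mem _ hc hc')
    (by rw [map_sub, h, sub_self])
  rw [← hbc]
  have key : ∀ z ∈ 𝒜 1 * ge 𝒜 n, ∃ b' : B, φ b' = monomial n z ∧ π b' = 0 := by
    intro z hz
    induction hz using Submodule.mul_induction_on' with
    | mem_mul_mem x hx y hy =>
      obtain ⟨b', -, e'⟩ := exists_of_ge hdeg (n := n) (show x * y ∈ ge 𝒜 n by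
        simpa using mul_mem_ge (mem_ge_of_mem hx (Nat.zero_le 1)) hy)
      exact ⟨b', e', pi_eq_zero hdeg π hφ hker (mem_ge_one_iff.1 (mem_ge_of_mem hx le_rfl)) hy e'⟩
    | add x _ y _ hx hy =>
      obtain ⟨b₁, e₁, h₁⟩ := hx
      obtain ⟨b₂, e₂, h₂⟩ := hy
      exact ⟨b₁ + b₂, by rw [map_add, e₁, e₂, map_add], by rw [map_add, h₁, h₂, add_zero]⟩
  obtain ⟨b', e', h'⟩ := key a (hgen ha)
  rw [hφ (e.trans e'.symm), h']

end Groth.Agent.GrNatLib
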